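import Cfsg.Agent.Lib.Fusion.DihedralClasses
import Cfsg.Agent.Lib.OddOrder.FeitThompson
import Cfsg.Agent.Lib.Cores.Pi

/-!
# Dihedral Sylow 2-subgroups with cyclic intersections

If a group with dihedral Sylow 2-subgroups has cyclic intersections of distinct Sylow 2-subgroups
and no normal 2-complement, the Sylow 2-subgroups are four-groups.
-/

set_option autoImplicit false

open scoped Pointwise

namespace Cfsg.Agent.Lib.BC77.QuatCyclic

open Subgroup Cfsg.Agent.Lib.Fusion.Dihedral Cfsg.Agent.Lib.Fusion.Alperin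

variable {X : Type*} [Group X] [Finite X]

theorem not_isCyclic_four {R : Subgroup X} (h : IsFour R) : ¬ IsCyclic R := by
  intro hc
  have := isFour_iff.1 h
  exact IsKleinFour.not_isCyclic hc

theorem four_of_fused {S : Sylow 2 X} {m : ℕ} (D : Coords S m)
    (hC : ∀ S T : Sylow 2 X, S ≠ T → IsCyclic ↥((S : Subgroup X) ⊓ (T : Subgroup X)))
    (hN : ¬ Cfsg.HasNormalPComplement 2 X) : m = 2 := by
  obtain ⟨R, hRS, hR, hodd⟩ :
      ∃ R : Subgroup X, R ≤ S ∧ IsFour R ∧ ¬ OddTrivial R := by
    by_contra h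
    push Not at h
    exact hN (D.hasNormalPComplement h)
  obtain ⟨n, hn, hno, x, hx, hnx⟩ :
      ∃ n ∈ normalizer (R : Set X), Odd (orderOf n) ∧ ∃ x ∈ R, n * x ≠ x * n := by
    unfold OddTrivial at hodd
    push Not at hodd
    exact hodd
  have hS : n • S = S := by
    by_contra hne
    have := hC (n • S) S hne
    have hle : R ≤ ((n • S : Sylow 2 X) : Subgroup X) ⊓ S := by
      refine le_inf (fun r hr => ?_) hRS
      rw [Sylow.coe_subgroup_smul, mem_pointwise_smul_iff_inv_smul_mem, MulAut.smul_def,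
        MulAut.conj_inv_apply]
      exact hRS ((mem_normalizer_iff''.1 hn r).1 hr)
    exact not_isCyclic_four hR (isCyclic_of_le hle)
  have hnS : n ∈ normalizer ((S : Subgroup X) : Set X) := Sylow.smul_eq_iff_mem_normalizer.1 hS
  by_contra hm
  have hnf : ¬ IsFour (S : Subgroup X) := fun h => by
    have := D.card
    rw [h.1] at this
    omega
  exact hnx (D.odd_centralizes le_rfl hnf hnS hno x (hRS hx))

end Cfsg.Agent.Lib.BC77.QuatCyclic
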