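import Cfsg.Agent.Lib.BC77.QuatCyclic.Dihedral
import Cfsg.Agent.Lib.SylowInter.CyclicTwoRadical
import Cfsg.Agent.Lib.MetacyclicChains.MaximalClassTwo
import Cfsg.Agent.Lib.Inv59.QuatQuotient
import Cfsg.Agent.Lib.ClassSizes.NonAdjacent
import Cfsg.Agent.Lib.Schur.MultiplierSL
import Cfsg.Agent.S0201

/-!
# Quaternion Sylow 2-subgroups with cyclic intersections

The statement S3307, with the Gorenstein–Walter theorem for perfect groups as a hypothesis.
-/

set_option autoImplicit false

universe u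

namespace Cfsg.Agent.Lib.BC77.QuatCyclic

open Subgroup

/-- The type of the Gorenstein–Walter statement for perfect groups. -/
def GWPerfect : Prop :=
  ∀ {X : Type u} [Group X] [Finite X] [Group.IsPerfect X] (S : Sylow 2 X) (n : ℕ), 2 ≤ n →
    Nonempty ((S : Subgroup X) ≃* DihedralGroup n) →
    (∃ (F : Type) (_ : Field F) (_ : Fintype F), Odd (Fintype.card F) ∧ 3 < Fintype.card F ∧
        Nonempty (X ⧸ Cfsg.oddCore X ≃* Matrix.ProjectiveSpecialLinearGroup (Fin 2) F)) ∨
      Nonempty (X ⧸ Cfsg.oddCore X ≃* alternatingGroup (Fin 7))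

/-- The quotient of a generalised quaternion Sylow subgroup by a central involution is dihedral. -/
theorem range_dihedral {Y H : Type*} [Group Y] [Group H] {N : ℕ} [NeZero N]
    (f : QuaternionGroup N →* Y) (hf : Function.Injective f) (π : Y →* H) {z : Y}
    (hzf : z ∈ f.range) (hz : orderOf z = 2) (hker : π.ker = zpowers z) :
    Nonempty ((π.comp f).range ≃* DihedralGroup N) := by
  obtain ⟨q0, rfl⟩ := hzf
  rw [orderOf_injective f hf] at hz
  have hq0 := Inv59.QuatQuotient.eq_of_orderOf_two q0 hz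
  have hk : (π.comp f).ker = (MetacyclicChains.quatToDihedral N).ker := by
    ext q
    rw [MonoidHom.mem_ker, MonoidHom.comp_apply, ← MonoidHom.mem_ker, hker,
      show f q ∈ zpowers (f q0) ↔ q ∈ zpowers q0 by
        rw [← MonoidHom.map_zpowers]
        exact ⟨fun ⟨r, hr, he⟩ => hf he ▸ hr, fun h => ⟨q, h, rfl⟩⟩]
    constructor
    · rintro ⟨i, rfl⟩
      refine zpow_mem (?_ : q0 ∈ _) i
      rw [hq0, MonoidHom.mem_ker]
      show DihedralGroup.r _ = DihedralGroup.r 0
      rw [map_natCast, ZMod.natCast_self]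
    · intro h
      rcases MetacyclicChains.quatToDihedral_ker h with rfl | rfl
      · exact one_mem _
      · rw [hq0]; exact mem_zpowers _
  exact ⟨(QuotientGroup.quotientKerEquivRange (π.comp f)).symm.trans
    ((QuotientGroup.quotientMulEquivOfEq hk).trans
      (QuotientGroup.quotientKerEquivOfSurjective _
        (MetacyclicChains.quatToDihedral_surjective N)))⟩

/-- A central extension of a group by an involution which is the only involution, over `PSL₂(q)`,
is `SL₂(q)`. -/
theorem nonempty_equiv_SL {F : Type} [Field F] [Fintype F] (hodd : Odd (Fintype.card F))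
    (h3 : 3 < Fintype.card F) (h9 : Fintype.card F ≠ 9) {E : Type u} [Group E] [Finite E]
    (π : E →* Matrix.ProjectiveSpecialLinearGroup (Fin 2) F) (hπ : Function.Surjective π)
    (hc : π.ker ≤ center E) (hk : Nat.card π.ker = 2)
    (hu : ∀ y : E, orderOf y = 2 → y ∈ π.ker) :
    Nonempty (E ≃* Matrix.SpecialLinearGroup (Fin 2) F) := by
  classical
  have hcard : Nat.card F = Fintype.card F := Nat.card_eq_fintype_card
  obtain ⟨j, hj⟩ := hodd
  have hq4 : Nat.card F ≠ 4 := by omega
  set ρ : Matrix.SpecialLinearGroup (Fin 2) F →* Matrix.ProjectiveSpecialLinearGroup (Fin 2) F :=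
    QuotientGroup.mk' _
  obtain ⟨τ, hτ⟩ := Schur.MultiplierSL.exists_lift (n := 2) le_rfl (fun _ => by omega)
    (by simp only [Set.mem_insert_iff, Set.mem_singleton_iff, Prod.mk.injEq, not_or]; omega)
    π hc hπ ρ
  have hτ' : ∀ g, π (τ g) = ρ g := fun g => DFunLike.congr_fun hτ g
  let w : Matrix.SpecialLinearGroup (Fin 2) F :=
    ⟨!![0, -1; 1, 0], by simp [Matrix.det_fin_two_of]⟩
  have hw : ρ w ≠ 1 := by
    intro h
    obtain ⟨r, -, hr⟩ :=
      Matrix.SpecialLinearGroup.mem_center_iff.1 ((QuotientGroup.eq_one_iff w).1 h)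
    have := congrFun (congrFun hr 1) 0
    simp [w] at this
  have hinj : Function.Injective τ := by
    rw [injective_iff_map_eq_one]
    intro g hg
    have hgc : g ∈ center (Matrix.SpecialLinearGroup (Fin 2) F) := by
      have := hτ' g
      rw [hg, map_one] at this
      exact (QuotientGroup.eq_one_iff g).1 this.symm
    obtain ⟨r, hr, hrg⟩ := Matrix.SpecialLinearGroup.mem_center_iff.1 hgc
    rw [Fintype.card_fin] at hr
    rcases sq_eq_one_iff.1 hr with rfl | rfl
    · exact Subtype.ext (by rw [← hrg]; simp)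
    exfalso
    have hg2 : g = w * w := Subtype.ext (by
      rw [← hrg, Matrix.SpecialLinearGroup.coe_mul]
      show Matrix.scalar (Fin 2) (-1 : F) = !![(0 : F), -1; 1, 0] * !![(0 : F), -1; 1, 0]
      ext i k
      fin_cases i <;> fin_cases k <;> simp [Matrix.mul_apply, Fin.sum_univ_two])
    have h1 : τ w ≠ 1 := fun h => hw (by rw [← hτ', h, map_one])
    have h2 : τ w ^ 2 = 1 := by rw [sq, ← map_mul, ← hg2, hg]
    exact hw (by rw [← hτ', MonoidHom.mem_ker.1 (hu _ (orderOf_eq_prime h2 h1))])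
  have hcE : Nat.card E = 2 * Nat.card (Matrix.ProjectiveSpecialLinearGroup (Fin 2) F) := by
    rw [card_eq_card_quotient_mul_card_subgroup π.ker, hk, mul_comm,
      Nat.card_congr (QuotientGroup.quotientKerEquivOfSurjective π hπ).toEquiv]
  have hcS : Nat.card (Matrix.SpecialLinearGroup (Fin 2) F) =
      2 * Nat.card (Matrix.ProjectiveSpecialLinearGroup (Fin 2) F) := by
    rw [Linear.two_mul_card_PSL_two_of_odd ⟨j, hj⟩, Linear.card_SL_two]
  exact ⟨(MulEquiv.ofBijective τ ((Nat.bijective_iff_injective_and_card τ).2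
    ⟨hinj, by rw [hcS, hcE]⟩)).symm⟩

variable {G : Type u} [Group G] [Finite G]

theorem main_quotient (hGW : GWPerfect.{u}) (hns : ¬ Group.IsSolvable G) {n : ℕ} (S : Sylow 2 G)
    (e : (S : Subgroup G) ≃* QuaternionGroup (2 ^ (n + 1)))
    (hO : ∀ M : Subgroup G, M.Normal → Odd (Nat.card M) → M = ⊥)
    (hC : ∀ S T : Sylow 2 G, S ≠ T → IsCyclic ↥((S : Subgroup G) ⊓ (T : Subgroup G))) :
    n = 0 ∧ ∃ (G₁ : Subgroup G) (_ : G₁.Normal), Odd G₁.index ∧
      ∃ (F : Type) (_ : Field F) (_ : Fintype F),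
        (Fintype.card F % 8 = 3 ∨ Fintype.card F % 8 = 5) ∧ 3 < Fintype.card F ∧
        Nonempty (↥G₁ ≃* Matrix.SpecialLinearGroup (Fin 2) F) := by
  classical
  have : Fact (Nat.Prime 2) := ⟨Nat.prime_two⟩
  have hFT : ∀ (H : Type u) [Group H] [Finite H], Odd (Nat.card H) → Group.IsSolvable H :=
    fun H _ _ h => OddOrder.FeitThompson.isSolvable_of_odd_card h
  set Z := center G with hZdef
  have hZ : Nat.card Z = 2 := S0201.result S n e hO
  obtain ⟨⟨z, hzZ⟩, hz2⟩ := exists_prime_orderOf_dvd_card' (G := Z) 2 (by rw [hZ])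
  rw [Subgroup.orderOf_mk] at hz2
  have hZz : zpowers z = Z :=
    eq_of_le_of_card_ge (zpowers_le.2 hzZ) (by rw [Nat.card_zpowers, hz2, hZ])
  have hzS : ∀ T : Sylow 2 G, z ∈ (T : Subgroup G) := fun T => by
    have : IsPGroup 2 Z := IsPGroup.of_card (n := 1) (by rw [hZ, pow_one])
    exact (Cores.le_pCore this).trans (Cores.pCore_le_sylow T) hzZ
  set π := QuotientGroup.mk' Z
  have hπ : Function.Surjective π := QuotientGroup.mk'_surjective Z
  have hker : π.ker = zpowers z := by rw [QuotientGroup.ker_mk', hZz]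
  have hO' : ∀ M : Subgroup (G ⧸ Z), M.Normal → Odd (Nat.card M) → M = ⊥ := by
    intro M hM ho
    set K := M.comap π
    have hZK : Z ≤ K := by
      rw [show Z = π.ker from (QuotientGroup.ker_mk' Z).symm]; exact ker_le_comap π M
    have hKi : (Z.subgroupOf K).index = Nat.card M := by
      have hr : (π.comp K.subtype).range = M := by
        rw [MonoidHom.range_comp, range_subtype]; exact map_comap_eq_self_of_surjective hπ M
      have hke : (π.comp K.subtype).ker = Z.subgroupOf K := by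
        rw [← MonoidHom.comap_ker, QuotientGroup.ker_mk']; rfl
      rw [← hke, index_ker, hr]
    have hcZ : Nat.card (Z.subgroupOf K) = 2 := by
      rw [Nat.card_congr (subgroupOfEquivOfLe hZK).toEquiv, hZ]
    obtain ⟨C, hC'⟩ := exists_right_complement'_of_coprime (N := Z.subgroupOf K)
      (by rw [hcZ, hKi]; exact Nat.coprime_two_left.2 ho)
    have hCc : Nat.card C = Nat.card M := by rw [← hKi, hC'.symm.index_eq_card]
    have hodd : ∀ k : K, Odd (orderOf k) → k ∈ C := by
      intro k hk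
      obtain ⟨⟨c, d⟩, hcd⟩ := hC'.2 k
      simp only at hcd
      have hzc : Commute (c : K) d := Subtype.ext (by
        have := mem_center_iff.1 c.2 ((d : K) : G)
        simpa using this.symm)
      have h1 : (c : K) ^ 2 = 1 := by
        rw [← hcZ]
        exact congrArg Subtype.val (pow_card_eq_one' (G := Z.subgroupOf K) (x := c))
      have h2 : k ^ (orderOf k * Nat.card C) = 1 := by rw [pow_mul, pow_orderOf_eq_one, one_pow]
      rw [← hcd, hzc.mul_pow] at h2
      have h3 : (d : K) ^ (orderOf k * Nat.card C) = 1 := by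
        rw [mul_comm, pow_mul,
          show (d : K) ^ Nat.card C = 1 from congrArg Subtype.val (pow_card_eq_one' (G := C) (x := d)),
          one_pow]
      rw [hcd] at h2
      rw [h3, mul_one] at h2
      obtain ⟨i, hi⟩ : Odd (orderOf k * Nat.card C) := Nat.odd_mul.2 ⟨hk, hCc ▸ ho⟩
      rw [hi, pow_succ, pow_mul, h1, one_pow, one_mul] at h2
      rw [← hcd, h2, one_mul]
      exact d.2
    have hCn : (C.map K.subtype).Normal := by
      refine ⟨fun x hx g => ?_⟩
      obtain ⟨k, hk, rfl⟩ := hx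
      have hKn : K.Normal := hM.comap π
      refine ⟨⟨g * k * g⁻¹, hKn.conj_mem _ k.2 g⟩, hodd _ ?_, rfl⟩
      rw [← Subgroup.orderOf_coe]
      show Odd (orderOf (g * (k : G) * g⁻¹))
      rw [← MulAut.conj_apply, MulEquiv.orderOf_eq, Subgroup.orderOf_coe]
      exact Odd.of_dvd_nat (hCc ▸ ho) (C.orderOf_dvd_natCard hk)
    have hb := hO _ hCn (by rw [card_map_of_injective K.subtype_injective, hCc]; exact ho)
    rw [← card_eq_one] at hb ⊢
    rwa [card_map_of_injective K.subtype_injective, hCc] at hb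
  have hnsH : ¬ Group.IsSolvable (G ⧸ Z) := fun h => hns (by
    have : Group.IsSolvable Z := ⟨⟨1, by
      rw [derivedSeries_one, commutator_eq_bot_iff_center_eq_top, eq_top_iff]
      exact fun a _ => mem_center_iff.2 fun b => Subtype.ext (mem_center_iff.1 a.2 b)⟩⟩
    exact Group.isSolvable_of_ker_le_range Z.subtype π
      (by rw [QuotientGroup.ker_mk', range_subtype]))
  have hCH := SylowInter.CyclicTwoRadical.inter_map hπ hC
  have hnc : ¬ Cfsg.HasNormalPComplement 2 (G ⧸ Z) := by
    rintro ⟨P, M, hM, hMc⟩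
    have hMo : Odd (Nat.card M) := by
      rw [← Subgroup.IsComplement'.index_eq_card hMc, Nat.odd_iff]
      exact Nat.two_dvd_ne_zero.1 P.not_dvd_index
    have hM1 := hO' M hM hMo
    subst hM1
    have hP : (P : Subgroup (G ⧸ Z)) = ⊤ := isComplement'_bot_left.1 hMc
    have hT : IsPGroup 2 (⊤ : Subgroup (G ⧸ Z)) := hP ▸ P.2
    have : Group.IsNilpotent (G ⧸ Z) := (hT.of_equiv topEquiv).isNilpotent
    exact hnsH inferInstance
  have : NeZero (2 ^ (n + 1)) := ⟨pow_ne_zero _ two_ne_zero⟩
  set f : QuaternionGroup (2 ^ (n + 1)) →* G := (S : Subgroup G).subtype.comp e.symm.toMonoidHom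
    with hfdef
  have hfr : f.range = (S : Subgroup G) := by
    rw [hfdef, MonoidHom.range_comp, MonoidHom.range_eq_top.2 e.symm.surjective,
      ← MonoidHom.range_eq_map, range_subtype]
  obtain ⟨eD⟩ := range_dihedral f (Subtype.val_injective.comp e.symm.injective) π
    (by rw [hfr]; exact hzS S) hz2 hker
  set S' : Sylow 2 (G ⧸ Z) := S.mapSurjective hπ with hS'def
  have hSr : (S' : Subgroup (G ⧸ Z)) = (π.comp f).range := by
    rw [MonoidHom.range_comp, hfr]; rfl
  have eS : (S' : Subgroup (G ⧸ Z)) ≃* DihedralGroup (2 ^ (n + 1)) :=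
    (MulEquiv.subgroupCongr hSr).trans eD
  have hn0 : n = 0 := by
    have h := four_of_fused (Fusion.Dihedral.Coords.ofEquiv eS) hCH hnc
    have : n + 1 = 1 := Nat.pow_right_injective le_rfl
      (show 2 ^ (n + 1) = 2 ^ 1 by rw [pow_one]; exact h)
    omega
  subst hn0
  refine ⟨rfl, ?_⟩
  have hS4 : Nat.card (S' : Subgroup (G ⧸ Z)) = 4 := by
    rw [Nat.card_congr eS.toEquiv, DihedralGroup.nat_card]; norm_num
  obtain ⟨L, hLn, hLL, hL1⟩ := ClassSizes.NonAdjacent.exists_perfect_normal hnsH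
  have hLp : Group.IsPerfect L := by
    refine ⟨?_⟩
    apply map_injective L.subtype_injective
    rw [_root_.commutator_def, map_commutator, ← MonoidHom.range_eq_map, range_subtype, hLL]
  have hOL : Cfsg.oddCore L = ⊥ := by
    have := Cores.normal_map_subtype L (Cfsg.oddCore L)
    rw [← map_eq_bot_iff_of_injective _ L.subtype_injective]
    exact hO' _ this (by rw [card_map_of_injective L.subtype_injective]; exact Cores.oddCore_odd)
  have hLs : ¬ Group.IsSolvable L := fun h => hL1 (by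
    obtain ⟨⟨k, hk⟩⟩ := h
    have hd : ∀ i, derivedSeries L i = ⊤ := fun i => by
      induction i with
      | zero => exact derivedSeries_zero _
      | succ i ih => rw [derivedSeries_succ, ih]; exact hLp.1
    rw [hd] at hk
    have h := congrArg (Subgroup.map L.subtype) hk
    rwa [← MonoidHom.range_eq_map, range_subtype, Subgroup.map_bot] at h)
  obtain ⟨T⟩ := (inferInstance : Nonempty (Sylow 2 L))
  obtain ⟨P, hP⟩ := (T.2.map L.subtype).exists_le_sylow
  have hP4 : Nat.card (P : Subgroup (G ⧸ Z)) = 4 := by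
    rw [P.card_eq_multiplicity, ← S'.card_eq_multiplicity, hS4]
  have hTmap : Nat.card (T : Subgroup L) = Nat.card ((T : Subgroup L).map L.subtype) :=
    (card_map_of_injective L.subtype_injective).symm
  have hT4 : Nat.card (T : Subgroup L) = 4 := by
    have hd : Nat.card (T : Subgroup L) ∣ 4 := by
      rw [hTmap, ← hP4]; exact card_dvd_of_le hP
    have h2 : 2 ∣ Nat.card L := by
      by_contra h
      exact hLs (hFT L (Nat.odd_iff.2 (Nat.two_dvd_ne_zero.1 h)))
    have hne2 : Nat.card (T : Subgroup L) ≠ 2 := by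
      intro hT2
      have : IsCyclic (T : Subgroup L) := isCyclic_of_prime_card hT2
      have hmin : (Nat.card L).minFac = 2 := (Nat.minFac_eq_two_iff _).2 h2
      have hN := IsCyclic.normalizer_le_centralizer (P := T) hmin this
      have hc := MonoidHom.ker_transferSylow_isComplement' T hN
      have hko : Odd (Nat.card (MonoidHom.transferSylow T hN).ker) := by
        rw [← Subgroup.IsComplement'.index_eq_card hc, Nat.odd_iff]
        exact Nat.two_dvd_ne_zero.1 T.not_dvd_index
      have hk : (MonoidHom.transferSylow T hN).ker = ⊥ :=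
        eq_bot_iff.2 ((Cores.le_oddCore hko).trans hOL.le)
      rw [hk] at hc
      have hT : (T : Subgroup L) = ⊤ := isComplement'_bot_left.1 hc
      have hTT : IsPGroup 2 (⊤ : Subgroup L) := hT ▸ T.2
      have : Group.IsNilpotent L := (hTT.of_equiv topEquiv).isNilpotent
      exact hLs inferInstance
    have h1 : 2 ∣ Nat.card (T : Subgroup L) := T.dvd_card_of_dvd_card h2
    have := Nat.le_of_dvd (by norm_num) hd
    have hpos : 0 < Nat.card (T : Subgroup L) := Nat.card_pos
    generalize Nat.card (T : Subgroup L) = t at hd hne2 h1 this hpos ⊢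
    interval_cases t <;> omega
  have hTP : (T : Subgroup L).map L.subtype = (P : Subgroup (G ⧸ Z)) :=
    eq_of_le_of_card_ge hP (by rw [hP4, ← hTmap, hT4])
  obtain ⟨eP⟩ : Nonempty ((P : Subgroup (G ⧸ Z)) ≃* DihedralGroup (2 ^ (0 + 1))) := by
    exact ⟨(S'.equiv P).symm.trans eS⟩
  have eT : (T : Subgroup L) ≃* DihedralGroup (2 ^ (0 + 1)) :=
    ((equivMapOfInjective _ _ L.subtype_injective).trans (MulEquiv.subgroupCongr hTP)).trans eP
  have hLi : Odd L.index := by
    rw [Nat.odd_iff]
    refine Nat.two_dvd_ne_zero.1 fun h => P.not_dvd_index (h.trans (index_dvd_of_le ?_))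
    rw [← hTP]; exact map_subtype_le _
  have hL8 : ¬ 8 ∣ Nat.card L := by
    intro h
    have h4 := T.card_eq_multiplicity
    rw [hT4] at h4
    have : 3 ≤ (Nat.card L).factorization 2 :=
      (Nat.prime_two.pow_dvd_iff_le_factorization Nat.card_pos.ne').1 h
    have := Nat.pow_le_pow_right two_pos this
    omega
  have e0 : L ⧸ Cfsg.oddCore L ≃* L :=
    (QuotientGroup.quotientMulEquivOfEq hOL).trans QuotientGroup.quotientBot
  rcases hGW T _ (by norm_num) ⟨eT⟩ with ⟨F, _, _, hFo, hF3, ⟨e1⟩⟩ | ⟨⟨e1⟩⟩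
  swap
  · exact absurd (by
      rw [Nat.card_congr (e0.symm.trans e1).toEquiv, nat_card_alternatingGroup, Nat.card_fin]
      decide) hL8
  set eL : L ≃* Matrix.ProjectiveSpecialLinearGroup (Fin 2) F := e0.symm.trans e1
  have hq : Fintype.card F % 8 = 3 ∨ Fintype.card F % 8 = 5 := by
    obtain ⟨j, hj⟩ := hFo
    have h2 := Linear.two_mul_card_PSL_two_of_odd (F := F) ⟨j, hj⟩
    rw [← Nat.card_congr eL.toEquiv, hj] at h2
    by_contra hne
    refine hL8 ?_
    have h16 : 16 ∣ 2 * Nat.card L := by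
      rw [h2, show 2 * j + 1 - 1 = 2 * j by omega]
      rcases (by omega : (2 * j + 1) % 8 = 1 ∨ (2 * j + 1) % 8 = 7) with h | h
      · obtain ⟨i, hi⟩ : ∃ i, j = 4 * i := ⟨j / 4, by omega⟩
        exact ⟨(8 * i + 1) * i * (4 * i + 1), by rw [hi]; ring⟩
      · obtain ⟨i, hi⟩ : ∃ i, j = 4 * i + 3 := ⟨j / 4, by omega⟩
        exact ⟨(8 * i + 7) * (4 * i + 3) * (i + 1), by rw [hi]; ring⟩
    omega
  refine ⟨L.comap π, hLn.comap π, by rw [index_comap_of_surjective _ hπ]; exact hLi,
    F, ‹_›, ‹_›, hq, hF3, ?_⟩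
  set ψ : ↥(L.comap π) →* L := π.subgroupComap L with hψ
  have hψs : Function.Surjective ψ := MonoidHom.subgroupComap_surjective_of_surjective π L hπ
  have hpk : (eL.toMonoidHom.comp ψ).ker = Z.subgroupOf (L.comap π) := by
    ext y
    rw [MonoidHom.mem_ker, mem_subgroupOf, MonoidHom.comp_apply]
    constructor
    · intro h
      have h' := congrArg Subtype.val (eL.injective (h.trans (map_one eL).symm))
      exact (QuotientGroup.eq_one_iff _).1 h'
    · intro h
      have h1 : ψ y = 1 := Subtype.ext ((QuotientGroup.eq_one_iff _).2 h)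
      rw [h1, map_one]
  refine nonempty_equiv_SL hFo hF3 (by omega) (eL.toMonoidHom.comp ψ)
    (eL.surjective.comp hψs) ?_ ?_ ?_
  · rw [hpk]
    exact fun y hy => mem_center_iff.2 fun b => Subtype.ext (mem_center_iff.1 hy b)
  · rw [hpk, Nat.card_congr (subgroupOfEquivOfLe ?_).toEquiv, hZ]
    exact (QuotientGroup.ker_mk' Z).ge.trans (ker_le_comap π L)
  · intro y hy
    rw [hpk, mem_subgroupOf]
    rw [← orderOf_submonoid] at hy
    obtain ⟨R, hR⟩ := (IsPGroup.of_card (G := zpowers (y : G)) (n := 1)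
      (by rw [Nat.card_zpowers, hy, pow_one])).exists_le_sylow
    let e' := (R.equiv S).trans e
    have h1 : e' ⟨(y : G), hR (mem_zpowers _)⟩ = e' ⟨z, hzS R⟩ := by
      rw [Inv59.QuatQuotient.eq_of_orderOf_two (e' ⟨(y : G), hR (mem_zpowers _)⟩)
          (by rw [MulEquiv.orderOf_eq, Subgroup.orderOf_mk]; exact hy),
        Inv59.QuatQuotient.eq_of_orderOf_two (e' ⟨z, hzS R⟩)
          (by rw [MulEquiv.orderOf_eq, Subgroup.orderOf_mk]; exact hz2)]
    rw [show (y : G) = z from congrArg Subtype.val (e'.injective h1)]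
    exact hzZ

theorem main (hGW : GWPerfect.{u}) (hns : ¬ Group.IsSolvable G)
    (hQ : ∀ S : Sylow 2 G, ∃ n : ℕ, Nonempty (↥(S : Subgroup G) ≃* QuaternionGroup (2 ^ (n + 1))))
    (hC : ∀ S T : Sylow 2 G, S ≠ T → IsCyclic ↥((S : Subgroup G) ⊓ (T : Subgroup G))) :
    (∀ S : Sylow 2 G, Nonempty (↥(S : Subgroup G) ≃* QuaternionGroup 2)) ∧
    ∃ (G₁ : Subgroup G) (_ : G₁.Normal) (_ : ((Cfsg.oddCore G).subgroupOf G₁).Normal),
      Odd G₁.index ∧ Cfsg.oddCore G ≤ G₁ ∧
      ∃ (F : Type) (_ : Field F) (_ : Fintype F),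
        (Fintype.card F % 8 = 3 ∨ Fintype.card F % 8 = 5) ∧ 3 < Fintype.card F ∧
        Nonempty (↥G₁ ⧸ (Cfsg.oddCore G).subgroupOf G₁ ≃* Matrix.SpecialLinearGroup (Fin 2) F) := by
  classical
  have : Fact (Nat.Prime 2) := ⟨Nat.prime_two⟩
  set O := Cfsg.oddCore G with hOdef
  have hOo : Odd (Nat.card O) := Cores.oddCore_odd
  set φ := QuotientGroup.mk' O
  have hφ : Function.Surjective φ := QuotientGroup.mk'_surjective O
  have hkφ : φ.ker = O := QuotientGroup.ker_mk' O
  have hnsQ : ¬ Group.IsSolvable (G ⧸ O) := fun h => hns (by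
    have : Group.IsSolvable O := OddOrder.FeitThompson.isSolvable_of_odd_card hOo
    exact Group.isSolvable_of_ker_le_range O.subtype φ (by rw [hkφ, range_subtype]))
  have hO : ∀ M : Subgroup (G ⧸ O), M.Normal → Odd (Nat.card M) → M = ⊥ := fun M hM ho =>
    le_bot_iff.1 ((Cores.le_oddCore ho).trans (Cores.pPrimeCore_quotient_pPrimeCore 2).le)
  obtain ⟨S⟩ := (inferInstance : Nonempty (Sylow 2 G))
  obtain ⟨n, ⟨e⟩⟩ := hQ S
  have hinj : Function.Injective (φ.subgroupMap (S : Subgroup G)) := by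
    rw [injective_iff_map_eq_one]
    intro x hx
    have hxO : (x : G) ∈ O := hkφ ▸ (congrArg Subtype.val hx : φ (x : G) = 1)
    have : orderOf (x : G) = 1 := by
      obtain ⟨k, hk⟩ := IsPGroup.iff_orderOf.1 S.2 x
      rw [← Subgroup.orderOf_coe] at hk
      have h := O.orderOf_dvd_natCard hxO
      rw [hk] at h ⊢
      rcases k with _ | k
      · rfl
      · exact absurd (Odd.of_dvd_nat hOo ((dvd_pow_self 2 k.succ_ne_zero).trans h))
          (by decide)
    exact Subtype.ext (orderOf_eq_one_iff.1 this)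
  let eS : (S.mapSurjective hφ : Subgroup (G ⧸ O)) ≃* QuaternionGroup (2 ^ (n + 1)) :=
    (MulEquiv.ofBijective _ ⟨hinj, φ.subgroupMap_surjective (S : Subgroup G)⟩).symm.trans e
  obtain ⟨rfl, G₂, hG₂, hi, F, _, _, hq, hF3, ⟨eF⟩⟩ := main_quotient hGW hnsQ
    (S.mapSurjective hφ) eS hO (SylowInter.CyclicTwoRadical.inter_map hφ hC)
  refine ⟨fun R => ⟨(R.equiv S).trans e⟩, G₂.comap φ, hG₂.comap φ, inferInstance, ?_, ?_,
    F, ‹_›, ‹_›, hq, hF3, ?_⟩
  · rw [index_comap_of_surjective _ hφ]; exact hi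
  · exact hkφ.ge.trans (ker_le_comap φ G₂)
  · set ψ : ↥(G₂.comap φ) →* G₂ := φ.subgroupComap G₂
    have hk : ψ.ker = O.subgroupOf (G₂.comap φ) := by
      ext y
      rw [MonoidHom.mem_ker, mem_subgroupOf]
      constructor
      · intro h
        exact (QuotientGroup.eq_one_iff _).1 (congrArg Subtype.val h)
      · intro h
        exact Subtype.ext ((QuotientGroup.eq_one_iff _).2 h)
    exact ⟨(QuotientGroup.quotientMulEquivOfEq hk.symm).trans
      ((QuotientGroup.quotientKerEquivOfSurjective ψ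
        (MonoidHom.subgroupComap_surjective_of_surjective φ G₂ hφ)).trans eF)⟩

end Cfsg.Agent.Lib.BC77.QuatCyclic
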